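import Groth.Agent.Lib.TwTensor11.Pair
import Groth.Agent.Lib.Twist.GenLocus
import Groth.Agent.Lib.Twist.Invertible
import Groth.Prelude.Def_GrMod2
import Mathlib.Topology.Sheaves.Stalks

/-!
The pairing `M~ ⊗ O(nd) ⟶ M(nd)~` is an isomorphism where `O(nd)` has frames.
-/

set_option autoImplicit false
set_option maxHeartbeats 1000000

universe u

open CategoryTheory MonoidalCategory Limits AlgebraicGeometry TopologicalSpace Opposite TensorProduct

namespace Groth.Agent.TwistW12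

open Groth.Agent.M2 Groth.Agent.TwTensor11

section Stalk

variable {X : Scheme.{u}} {M N K : X.Modules}

theorem bijective_stalk (b : BiMap M N K) {x : X} {U : X.Opens} (hx : x ∈ U) (e : Γ(N, U))
    (hgen : ∀ (V : X.Opens) (hV : V ≤ U) (t : Γ(N, V)), ∃ r : Γ(X, V), r • res N hV e = t)
    (hbij : ∀ (V : X.Opens) (hV : V ≤ U), Function.Bijective fun s : Γ(M, V) => b.f V s (res N hV e)) :
    Function.Bijective ((TopCat.Presheaf.stalkFunctor Ab.{u} x).map (mkHom b).mapPresheaf) := by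
  refine ⟨(injective_iff_map_eq_zero _).2 fun z hz => ?_, fun k => ?_⟩
  · obtain ⟨V, hV, hxV, s, rfl⟩ := exists_germ_tsec hx e hgen z
    have h1 : K.presheaf.germ V x hxV (b.f V s (res N hV e)) = K.presheaf.germ V x hxV 0 := by
      rw [map_zero]
      refine Eq.trans ?_ hz
      rw [← mkHom_tsec b s]
      exact (TopCat.Presheaf.stalkFunctor_map_germ_apply V x hxV (mkHom b).mapPresheaf _).symm
    obtain ⟨W, hxW, i, i', hW⟩ := TopCat.Presheaf.germ_eq K.presheaf x hxV hxV _ _ h1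
    have hs : res M (leOfHom i) s = 0 := by
      refine (hbij W ((leOfHom i).trans hV)).1 ?_
      have e0 : b.f W 0 (res N ((leOfHom i).trans hV) e) = 0 := by
        have := b.add_left W 0 0 (res N ((leOfHom i).trans hV) e)
        rw [add_zero] at this
        exact left_eq_add.1 this
      show b.f W (res M (leOfHom i) s) (res N ((leOfHom i).trans hV) e) = b.f W 0 _
      rw [e0, show res N ((leOfHom i).trans hV) e = res N (leOfHom i) (res N hV e) from (M1.mres_mres N _ _ e).symm,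
        b.compat]
      exact hW.trans (map_zero _)
    rw [← TopCat.Presheaf.germ_res_apply (CohB1.tensorMod M N).presheaf i x hxW]
    refine Eq.trans (congrArg _ ((res_tsec (leOfHom i) s (res N hV e)).trans ?_)) (map_zero _)
    rw [hs]
    have := tsec_add_left (0 : Γ(M, W)) 0 (res N (leOfHom i) (res N hV e))
    rw [add_zero] at this
    exact left_eq_add.1 this
  · obtain ⟨V, hxV, k', rfl⟩ := TopCat.Presheaf.exists_germ_eq K.presheaf k
    obtain ⟨s, hs⟩ := (hbij (V ⊓ U) inf_le_right).2 (res K (inf_le_left : V ⊓ U ≤ V) k')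
    refine ⟨(CohB1.tensorMod M N).presheaf.germ (V ⊓ U) x ⟨hxV, hx⟩ (tsec M N s (res N inf_le_right e)), ?_⟩
    refine (TopCat.Presheaf.stalkFunctor_map_germ_apply (V ⊓ U) x ⟨hxV, hx⟩ (mkHom b).mapPresheaf _).trans ?_
    refine (congrArg _ ((mkHom_tsec b s _).trans hs)).trans ?_
    exact TopCat.Presheaf.germ_res_apply K.presheaf (homOfLE (inf_le_left : V ⊓ U ≤ V)) x _ k'

theorem isIso_restrict_of_bijective_stalk (φ : M ⟶ N) (W : X.Opens)
    (h : ∀ x ∈ W, Function.Bijective ((TopCat.Presheaf.stalkFunctor Ab.{u} x).map φ.mapPresheaf)) :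
    IsIso ((Scheme.Modules.restrictFunctor W.ι).map φ) := by
  rw [Twist.isIso_restrict_map_iff]
  intro V hV
  exact TopCat.Presheaf.app_bijective_of_stalkFunctor_map_bijective
    (F := ⟨M.presheaf, M.isSheaf⟩) (G := ⟨N.presheaf, N.isSheaf⟩) ⟨φ.mapPresheaf⟩ V fun x hx => h x (hV hx)

end Stalk

section Frame

variable {R A : Type u} [CommRing R] [CommRing A] [Algebra R A] (𝒜 : ℕ → Submodule R A) [GradedAlgebra 𝒜]

/-- A frame of `O(nd)` on `D₊(ab)`. -/
theorem exists_frame_mul {d i j : ℕ} {a b : A} (ha : a ∈ 𝒜 i) (hb : b ∈ 𝒜 j) (hij : i = j + d) (n : ℤ) :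
    ∃ (e : GrTw11.Sec (𝒜 := 𝒜) (n * d) (Proj.basicOpen 𝒜 (a * b)))
      (e' : GrTw11.Sec (𝒜 := 𝒜) (-(n * d)) (Proj.basicOpen 𝒜 (a * b))),
      ∀ x hx, GrTw11.val e x hx * GrTw11.val e' x hx = 1 := by
  have hle : ∀ c : A, c ∣ a * b → ∀ k : ℕ, Proj.basicOpen 𝒜 (a * b) ≤ Proj.basicOpen 𝒜 (c ^ k) :=
    fun c hc k x hx h => Proj.basicOpen_mono 𝒜 _ _ hc hx (x.isPrime.mem_of_pow_mem k h)
  have key : ∀ {x : ProjectiveSpectrum 𝒜} {p q : A} (hp : p ∉ x.asHomogeneousIdeal) (hq : q ∉ x.asHomogeneousIdeal),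
      Localization.mk p (⟨q, hq⟩ : x.asHomogeneousIdeal.toIdeal.primeCompl) *
        Localization.mk q (⟨p, hp⟩ : x.asHomogeneousIdeal.toIdeal.primeCompl) = 1 := fun hp hq =>
    Twist.mk_mul_mk_eq_one 𝒜 hp hq
  have ha' := fun k : ℕ => SetLike.pow_mem_graded k ha
  have hb' := fun k : ℕ => SetLike.pow_mem_graded k hb
  rcases Int.eq_nat_or_neg n with ⟨k, rfl | rfl⟩
  · refine ⟨GrTw11.frac 𝒜 _ (ha' k) (hb' k) (by subst hij; simp only [smul_eq_mul]; push_cast; ring) (hle b (dvd_mul_left b a) k),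
      GrTw11.frac 𝒜 _ (hb' k) (ha' k) (by subst hij; simp only [smul_eq_mul]; push_cast; ring) (hle a (dvd_mul_right a b) k), fun x hx => ?_⟩
    rw [GrTw11.val_frac, GrTw11.val_frac]
    exact key _ _
  · refine ⟨GrTw11.frac 𝒜 _ (hb' k) (ha' k) (by subst hij; simp only [smul_eq_mul]; push_cast; ring) (hle a (dvd_mul_right a b) k),
      GrTw11.frac 𝒜 _ (ha' k) (hb' k) (by subst hij; simp only [smul_eq_mul]; push_cast; ring) (hle b (dvd_mul_left b a) k), fun x hx => ?_⟩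
    rw [GrTw11.val_frac, GrTw11.val_frac]
    exact key _ _

variable {M : Type u} [AddCommGroup M] [Module R M] [Module A M] [IsScalarTower R A M] (ℳ : ℕ → Submodule R M)
    [DirectSum.Decomposition ℳ] [SetLike.GradedSMul 𝒜 ℳ]

/-- Twisting by `O(nd)` on the union of the `D₊(ab)`. -/
theorem nonempty_iso (d : ℕ) (n : ℤ) :
    Nonempty ((_root_.Twist.twistBy 𝒜 (GrTilde.tilde 𝒜 ℳ 0) (n * d)).restrict
        (⨆ (j : ℕ) (a : 𝒜 (j + d)) (b : 𝒜 j), Proj.basicOpen 𝒜 ((a : A) * b)).ι ≅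
      (GrTilde.tilde 𝒜 ℳ (n * d)).restrict
        (⨆ (j : ℕ) (a : 𝒜 (j + d)) (b : 𝒜 j), Proj.basicOpen 𝒜 ((a : A) * b)).ι) := by
  let φ : _root_.Twist.twistBy 𝒜 (GrTilde.tilde 𝒜 ℳ 0) (n * d) ⟶ GrTilde.tilde 𝒜 ℳ (n * d) :=
    mkHom (pairMap 𝒜 ℳ (zero_add (n * d)))
  have h : IsIso ((Scheme.Modules.restrictFunctor
      (⨆ (j : ℕ) (a : 𝒜 (j + d)) (b : 𝒜 j), Proj.basicOpen 𝒜 ((a : A) * b)).ι).map
        φ) := by
    refine isIso_restrict_of_bijective_stalk _ _ fun x hx => ?_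
    simp only [Opens.mem_iSup] at hx
    obtain ⟨j, a, b, hxab⟩ := hx
    obtain ⟨e, e', he⟩ := exists_frame_mul 𝒜 a.2 b.2 rfl n
    exact bijective_stalk (pairMap 𝒜 ℳ (zero_add (n * d))) hxab e (fun V hV t => exists_smul_eq hV e e' he t) fun V hV =>
      bijective_pairSec (zero_add (n * d)) _ (GrTwist.resN (-(n * d)) (homOfLE hV).op e') fun y hy => he y (hV hy)
  exact ⟨@asIso _ _ _ _ _ h⟩

end Frame

end Groth.Agent.TwistW12
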